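import Cfsg.Agent.Jordan.Unitary
import Mathlib.Analysis.SpecialFunctions.Complex.Arg
import Mathlib.GroupTheory.QuotientGroup.Basic
import Mathlib.LinearAlgebra.Eigenspace.Pi

/-!
# The abelian normal subgroup of a finite linear group cutting every abelian subgroup in
bounded index
-/

set_option autoImplicit false

open scoped InnerProductSpace
open Module

namespace Cfsg.Agent.Jordan

universe u

variable {G : Type u} [Group G]

section Unitarise

variable {n : ℕ}

/-- Every representation of a finite group is equivalent to one by isometries. -/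
theorem exists_isometric [Fintype G] (ρ : Representation ℂ G (Fin n → ℂ)) :
    ∃ (W : Type u) (_ : NormedAddCommGroup W) (_ : InnerProductSpace ℂ W)
      (_ : FiniteDimensional ℂ W)
      (σ : Representation ℂ G W), (∀ g v, ‖σ g v‖ = ‖v‖) ∧ finrank ℂ W = n ∧
      ∀ g, σ g = 1 → ρ g = 1 := by
  classical
  let e := (WithLp.linearEquiv 2 ℂ (Fin n → ℂ)).symm
  let J : (Fin n → ℂ) →ₗ[ℂ] PiLp 2 (fun _ : G => EuclideanSpace ℂ (Fin n)) :=
    (WithLp.linearEquiv 2 ℂ (G → EuclideanSpace ℂ (Fin n))).symm.toLinearMap ∘ₗ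
      LinearMap.pi fun g => e.toLinearMap ∘ₗ ρ g
  have hJ : ∀ v g, J v g = e (ρ g v) := fun v g => rfl
  have hinj : Function.Injective J := fun v w h => by
    have h1 := congrArg (fun f : PiLp 2 (fun _ : G => EuclideanSpace ℂ (Fin n)) => f 1) h
    simpa [hJ] using h1
  let E := LinearEquiv.ofInjective J hinj
  let σ : Representation ℂ G (LinearMap.range J) := E.conjRingEquiv.toMonoidHom.comp ρ
  have hσ : ∀ g w, σ g (E w) = E (ρ g w) := fun g w => by
    simp [σ, LinearEquiv.conjRingEquiv]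
  refine ⟨↥(LinearMap.range J), inferInstance, inferInstance, inferInstance, σ, fun g v => ?_, ?_,
    fun g hg => ?_⟩
  · obtain ⟨w, rfl⟩ := E.surjective v
    rw [hσ, Submodule.coe_norm, Submodule.coe_norm]
    show ‖J (ρ g w)‖ = ‖J w‖
    rw [PiLp.norm_eq_of_L2, PiLp.norm_eq_of_L2]
    congr 1
    refine Fintype.sum_equiv (Equiv.mulRight g) _ _ fun x => ?_
    simp [hJ, map_mul, Module.End.mul_apply]
  · rw [← E.finrank_eq]; simp
  · exact LinearMap.ext fun w => E.injective (by rw [← hσ, hg]; rfl)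

end Unitarise

/-- The twelfth of the unit circle in which a number lies. -/
noncomputable def bin (z : ℂ) : Fin 12 :=
  ⟨(⌊(Complex.arg z + Real.pi) * (6 / Real.pi)⌋ % 12).toNat, by
    have h1 := Int.emod_nonneg ⌊(Complex.arg z + Real.pi) * (6 / Real.pi)⌋ (show (12:ℤ) ≠ 0 by norm_num)
    have h2 := Int.emod_lt_of_pos ⌊(Complex.arg z + Real.pi) * (6 / Real.pi)⌋ (show (0:ℤ) < 12 by norm_num)
    omega⟩

theorem re_lt_of_bin_eq {a b : ℂ} (ha : ‖a‖ = 1) (hb : ‖b‖ = 1) (h : bin a = bin b) :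
    Real.sqrt 3 / 2 < (b / a).re := by
  have hπ := Real.pi_pos
  set A := (Complex.arg a + Real.pi) * (6 / Real.pi) with hA
  set B := (Complex.arg b + Real.pi) * (6 / Real.pi) with hB
  have h0 : ⌊A⌋ % 12 = ⌊B⌋ % 12 := by
    have h1 := Int.emod_nonneg ⌊A⌋ (show (12:ℤ) ≠ 0 by norm_num)
    have h2 := Int.emod_nonneg ⌊B⌋ (show (12:ℤ) ≠ 0 by norm_num)
    have h3 := congrArg Fin.val h
    simp only [bin, ← hA, ← hB] at h3
    omega
  obtain ⟨k, hk⟩ : ∃ k : ℤ, ⌊B⌋ - ⌊A⌋ = 12 * k :=
    Int.ModEq.dvd h0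
  set δ := Complex.arg b - Complex.arg a - k * (2 * Real.pi) with hδ
  have hd : δ * (6 / Real.pi) = (B - A) - 12 * k := by
    rw [hA, hB, hδ]; field_simp; ring
  have hbound : |δ * (6 / Real.pi)| < 1 := by
    rw [hd, abs_lt]
    have hkr : (⌊B⌋ : ℝ) - ⌊A⌋ = 12 * k := by exact_mod_cast hk
    constructor <;>
      linarith [Int.floor_le A, Int.floor_le B, Int.lt_floor_add_one A, Int.lt_floor_add_one B]
  have hδlt : |δ| < Real.pi / 6 := by
    rw [abs_mul, abs_of_pos (show (0:ℝ) < 6 / Real.pi by positivity)] at hbound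
    rw [lt_div_iff₀ (by norm_num : (0:ℝ) < 6)]
    have := mul_lt_mul_of_pos_right hbound hπ
    field_simp at this
    linarith
  have hcos : Real.sqrt 3 / 2 < Real.cos δ := by
    rw [← Real.cos_pi_div_six, ← Real.cos_abs δ]
    exact Real.cos_lt_cos_of_nonneg_of_le_pi (abs_nonneg _) (by linarith) hδlt
  have e1 : b / a = Complex.exp ((Complex.arg b - Complex.arg a : ℝ) * Complex.I) := by
    have h1 := Complex.norm_mul_exp_arg_mul_I a
    have h2 := Complex.norm_mul_exp_arg_mul_I b
    rw [ha, Complex.ofReal_one, one_mul] at h1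
    rw [hb, Complex.ofReal_one, one_mul] at h2
    push_cast
    rw [sub_mul, Complex.exp_sub, h1, h2]
  rw [e1, Complex.exp_ofReal_mul_I_re]
  have : Real.cos (Complex.arg b - Complex.arg a) = Real.cos δ := by
    rw [hδ, Real.cos_sub_int_mul_two_pi]
  rwa [this]

variable {W : Type*} [NormedAddCommGroup W] [InnerProductSpace ℂ W] [FiniteDimensional ℂ W]
  {σ : Representation ℂ G W}

/-- The elements all of whose eigenvalues have real part above `√3/2`. -/
def smallSet (σ : Representation ℂ G W) : Set G :=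
  {x | ∀ (v : W) (μ : ℂ), v ≠ 0 → σ x v = μ • v → Real.sqrt 3 / 2 < μ.re}

theorem smallSet_conj {x : G} (hx : x ∈ smallSet σ) (g : G) : g * x * g⁻¹ ∈ smallSet σ := by
  intro v μ hv h
  have hl : ∀ u, σ g (σ g⁻¹ u) = u := fun u => by
    rw [← Module.End.mul_apply, ← map_mul, mul_inv_cancel, map_one, Module.End.one_apply]
  refine hx (σ g⁻¹ v) μ (fun h0 => hv ?_) ?_
  · rw [← hl v, h0, map_zero]
  · have h1 : σ g (σ x (σ g⁻¹ v)) = μ • v := by
      rw [← h, map_mul, map_mul]; rfl
    have h2 : σ g (σ x (σ g⁻¹ v)) = σ g (μ • σ g⁻¹ v) := by rw [h1, map_smul, hl]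
    have h3 := congrArg (σ g⁻¹) h2
    have hl' : ∀ u, σ g⁻¹ (σ g u) = u := fun u => by
      rw [← Module.End.mul_apply, ← map_mul, inv_mul_cancel, map_one, Module.End.one_apply]
    rwa [hl', hl'] at h3

theorem dev_sq_lt_two [Finite G] (hiso : ∀ g v, ‖σ g v‖ = ‖v‖) {x : G} (hx : x ∈ smallSet σ) :
    dev σ x 1 ^ 2 < 2 := by
  have h : dev σ x 1 < Real.sqrt 2 := by
    refine dev_lt hiso x 1 (by positivity) fun v μ hv he => ?_
    have hμ := eigen_norm hiso hv he
    have hre := hx v μ hv he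
    have h3 : (0:ℝ) ≤ Real.sqrt 3 := Real.sqrt_nonneg _
    rw [Real.lt_sqrt (norm_nonneg _), Complex.sq_norm, Complex.normSq_sub]
    simp [Complex.normSq_eq_norm_sq, hμ]
    linarith
  calc dev σ x 1 ^ 2 < Real.sqrt 2 ^ 2 := by gcongr; exact norm_nonneg _
    _ = 2 := Real.sq_sqrt (by norm_num)

theorem dev_lt_half [Finite G] (hiso : ∀ g v, ‖σ g v‖ = ‖v‖) {x : G} (hx : x ∈ smallSet σ) :
    dev σ x (Real.sqrt 3 / 2 : ℝ) < 1 / 2 := by
  refine dev_lt hiso x _ (by norm_num) fun v μ hv he => ?_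
  have hμ := eigen_norm hiso hv he
  have hre := hx v μ hv he
  have h1 : μ.re ^ 2 + μ.im ^ 2 = 1 := by
    have := Complex.sq_norm μ
    rw [hμ, Complex.normSq_apply] at this
    nlinarith
  have h3 : Real.sqrt 3 ^ 2 = 3 := Real.sq_sqrt (by norm_num)
  have h4 : 0 < Real.sqrt 3 := by positivity
  have h2 : ‖μ - ((Real.sqrt 3 / 2 : ℝ) : ℂ)‖ ^ 2 < (1 / 2) ^ 2 := by
    rw [Complex.sq_norm, Complex.normSq_apply]
    simp only [Complex.sub_re, Complex.ofReal_re, Complex.sub_im, Complex.ofReal_im, sub_zero]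
    nlinarith
  exact lt_of_pow_lt_pow_left₀ 2 (by norm_num) h2

theorem smallSet_comm [Finite G] (hiso : ∀ g v, ‖σ g v‖ = ‖v‖) (hinj : Function.Injective σ)
    {x y : G} (hx : x ∈ smallSet σ) (hy : y ∈ smallSet σ) : x * y = y * x :=
  commute_of_dev_lt hiso hinj x _ (dev_lt_half hiso hx) y (dev_sq_lt_two hiso hy)

/-- The weights of an abelian subgroup. -/
def weights (σ : Representation ℂ G W) (H : Subgroup G) : Set (H → ℂ) :=
  {lam | ∃ v : W, v ≠ 0 ∧ ∀ h : H, σ h v = lam h • v}

theorem weights_finite_card (hiso : ∀ g v, ‖σ g v‖ = ‖v‖) (H : Subgroup G)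
    (hH : ∀ x ∈ H, ∀ y ∈ H, x * y = y * x) :
    Finite (weights σ H) ∧ Nat.card (weights σ H) ≤ finrank ℂ W := by
  let f : H → Module.End ℂ W := fun h => σ h
  choose v hv0 hv using fun l : weights σ H => l.2
  have hpair : Pairwise fun i j : H => Commute (f i) (f j) := fun i j _ => by
    show σ i * σ j = σ j * σ i
    rw [← map_mul, ← map_mul, hH i i.2 j j.2]
  have hind : iSupIndep fun χ : H → ℂ => ⨅ i, (f i).maxGenEigenspace (χ i) :=
    Module.End.independent_iInf_maxGenEigenspace_of_forall_mapsTo f fun i j φ =>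
      Module.End.mapsTo_maxGenEigenspace_of_comm
        (by rcases eq_or_ne i j with rfl | hne; exacts [Commute.refl _, hpair (Ne.symm hne)]) φ
  have hmem : ∀ l : weights σ H, v l ∈ ⨅ i, (f i).maxGenEigenspace (l.1 i) := fun l => by
    rw [Submodule.mem_iInf]
    intro i
    exact ((f i).genEigenspace (l.1 i)).monotone (le_top : (1 : ℕ∞) ≤ ⊤)
      (Module.End.mem_eigenspace_iff.mpr (hv l i))
  have hinj : Function.Injective (fun l : weights σ H => l.1) := Subtype.val_injective
  have hli : LinearIndependent ℂ v :=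
    (hind.comp hinj).linearIndependent _ hmem hv0
  haveI : Finite (weights σ H) := hli.finite
  refine ⟨this, ?_⟩
  haveI := Fintype.ofFinite (weights σ H)
  rw [Nat.card_eq_fintype_card]
  exact hli.fintype_card_le_finrank

theorem abelian_index_le [Finite G] (hiso : ∀ g v, ‖σ g v‖ = ‖v‖) (H : Subgroup G)
    (hH : ∀ x ∈ H, ∀ y ∈ H, x * y = y * x) (A : Subgroup G) (hA : smallSet σ ⊆ A) :
    (A.subgroupOf H).index ≤ 12 ^ finrank ℂ W := by
  classical
  obtain ⟨hfin, hcard⟩ := weights_finite_card hiso H hH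
  let F : H → (weights σ H → Fin 12) := fun h l => bin (l.1 h)
  have key : ∀ h₁ h₂ : H, F h₁ = F h₂ → h₁⁻¹ * h₂ ∈ A.subgroupOf H := by
    intro h₁ h₂ hF
    refine Subgroup.mem_subgroupOf.mpr (hA ?_)
    intro v μ hv he
    haveI := Fintype.ofFinite H
    set x : G := ((h₁⁻¹ * h₂ : H) : G)
    obtain ⟨w, hw, hw0, hall⟩ := exists_common_eigenvector (Finset.univ : Finset H)
      (fun h : H => σ h) (fun i j => by
        show σ i * σ j = σ j * σ i
        rw [← map_mul, ← map_mul, hH i i.2 j j.2])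
      (Module.End.eigenspace (σ x) μ)
      (fun h => hv (by
        have : v ∈ Module.End.eigenspace (σ x) μ := Module.End.mem_eigenspace_iff.mpr he
        rw [h] at this; exact this))
      (fun i u hu => by
        rw [Module.End.mem_eigenspace_iff] at hu ⊢
        rw [← Module.End.mul_apply, ← map_mul, hH x (h₁⁻¹ * h₂).2 i i.2, map_mul,
          Module.End.mul_apply, hu, map_smul])
    choose lam hlam using fun h : H => hall h (Finset.mem_univ h)
    have hl : lam ∈ weights σ H := ⟨w, hw0, hlam⟩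
    have hn : ∀ h : H, ‖lam h‖ = 1 := fun h => eigen_norm hiso hw0 (hlam h)
    have hxw : σ x w = μ • w := Module.End.mem_eigenspace_iff.mp hw
    have hμ : μ = lam h₂ / lam h₁ := by
      have h1 : σ (h₁ : G) (σ x w) = σ (h₂ : G) w := by
        rw [← Module.End.mul_apply, ← map_mul]
        congr 2
        simp [x]
      rw [hxw, map_smul, hlam, hlam, smul_smul] at h1
      have h2 := smul_left_injective ℂ hw0 h1
      rw [eq_div_iff (norm_ne_zero_iff.mp (by rw [hn]; exact one_ne_zero))]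
      exact h2
    rw [hμ]
    exact re_lt_of_bin_eq (hn h₁) (hn h₂) (congrFun hF ⟨lam, hl⟩)
  have hinj : Function.Injective fun q : H ⧸ A.subgroupOf H => F q.out := by
    intro q₁ q₂ h
    rw [← QuotientGroup.out_eq' q₁, ← QuotientGroup.out_eq' q₂, QuotientGroup.eq]
    exact key _ _ h
  rw [Subgroup.index]
  refine (Nat.card_le_card_of_injective _ hinj).trans ?_
  rw [Nat.card_fun, Nat.card_fin]
  exact Nat.pow_le_pow_right (by norm_num) hcard

/-- A finite group with a faithful representation of degree `n` has an abelian normal subgroup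
meeting every abelian subgroup in index at most `12 ^ n`. -/
theorem exists_abelian_normal {n : ℕ} [Finite G] (ρ : Representation ℂ G (Fin n → ℂ))
    (hρ : ∀ g, ρ g = 1 → g = 1) :
    ∃ A : Subgroup G, A.Normal ∧ (∀ x ∈ A, ∀ y ∈ A, x * y = y * x) ∧
      ∀ H : Subgroup G, (∀ x ∈ H, ∀ y ∈ H, x * y = y * x) → (A.subgroupOf H).index ≤ 12 ^ n := by
  haveI := Fintype.ofFinite G
  obtain ⟨W, _, _, _, σ, hiso, hdim, hker⟩ := exists_isometric ρ
  have hinj : Function.Injective σ := by
    intro a b h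
    have h1 : σ (a⁻¹ * b) = 1 := by rw [map_mul, ← h, ← map_mul, inv_mul_cancel, map_one]
    exact inv_mul_eq_one.mp (hρ _ (hker _ h1))
  refine ⟨Subgroup.closure (smallSet (W := W) σ), ⟨fun a ha g => ?_⟩, ?_, fun H hH => ?_⟩
  · induction ha using Subgroup.closure_induction with
    | mem x hx => exact Subgroup.subset_closure (smallSet_conj hx g)
    | one => simp
    | mul x y _ _ hx hy =>
      have e : g * (x * y) * g⁻¹ = g * x * g⁻¹ * (g * y * g⁻¹) := by group
      rw [e]; exact mul_mem hx hy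
    | inv x _ hx =>
      have e : g * x⁻¹ * g⁻¹ = (g * x * g⁻¹)⁻¹ := by group
      rw [e]; exact inv_mem hx
  · have h1 : Subgroup.closure (smallSet σ) ≤ Subgroup.centralizer (smallSet σ) :=
      (Subgroup.closure_le _).mpr fun x hx =>
        Subgroup.mem_centralizer_iff.mpr fun y hy => smallSet_comm hiso hinj hy hx
    have h2 : Subgroup.closure (smallSet σ) ≤
        Subgroup.centralizer (Subgroup.closure (smallSet σ) : Set G) :=
      (Subgroup.closure_le _).mpr fun x hx => Subgroup.mem_centralizer_iff.mpr fun y hy =>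
        (Subgroup.mem_centralizer_iff.mp (h1 hy) x hx).symm
    exact fun x hx y hy => Subgroup.mem_centralizer_iff.mp (h2 hy) x hx
  · rw [← hdim]; exact abelian_index_le hiso H hH _ Subgroup.subset_closure

end Cfsg.Agent.Jordan
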