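import Cfsg.Agent.Char.Basic
import Mathlib.Analysis.InnerProductSpace.PiL2
import Mathlib.Analysis.Normed.Operator.NormedSpace
import Mathlib.Analysis.InnerProductSpace.Projection.FiniteDimensional

/-!
# Finite groups of isometries: Frobenius's commutation lemma, unitarisation
-/

set_option autoImplicit false

open scoped ComplexConjugate InnerProductSpace
open Module

namespace Cfsg.Agent.Jordan

universe u

variable {G : Type u} [Group G] {W : Type*} [NormedAddCommGroup W] [InnerProductSpace ℂ W]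
  [FiniteDimensional ℂ W]

/-- A representation by isometries, as continuous operators. -/
noncomputable def opRep (σ : Representation ℂ G W) : G →* (W →L[ℂ] W) where
  toFun g := LinearMap.toContinuousLinearMap (σ g)
  map_one' := by ext v; simp
  map_mul' g h := by ext v; simp

@[simp] theorem opRep_apply (σ : Representation ℂ G W) (g : G) (v : W) :
    opRep σ g v = σ g v := rfl

variable {σ : Representation ℂ G W}

theorem inner_map (hiso : ∀ g v, ‖σ g v‖ = ‖v‖) (g : G) (v w : W) :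
    ⟪σ g v, σ g w⟫_ℂ = ⟪v, w⟫_ℂ :=
  (LinearMap.isometryOfInner (σ g) (fun a b => by
    exact (LinearIsometry.inner_map_map ⟨σ g, hiso g⟩ a b))).inner_map_map v w

theorem eigen_norm (hiso : ∀ g v, ‖σ g v‖ = ‖v‖) {g : G} {v : W} {μ : ℂ} (hv : v ≠ 0)
    (h : σ g v = μ • v) : ‖μ‖ = 1 := by
  have h1 := hiso g v
  rw [h, norm_smul] at h1
  exact (mul_eq_right₀ (norm_ne_zero_iff.mpr hv)).mp h1

theorem eigen_orth (hiso : ∀ g v, ‖σ g v‖ = ‖v‖) {g : G} {v w : W} {μ ν : ℂ} (hne : μ ≠ ν)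
    (hv : σ g v = μ • v) (hw : σ g w = ν • w) : ⟪v, w⟫_ℂ = 0 := by
  rcases eq_or_ne v 0 with rfl | hv0
  · simp
  have hμ : conj μ * μ = 1 := by
    rw [← Complex.normSq_eq_conj_mul_self, Complex.normSq_eq_norm_sq, eigen_norm hiso hv0 hv]; simp
  have h1 : conj μ * ν * ⟪v, w⟫_ℂ = ⟪v, w⟫_ℂ := by
    conv_rhs => rw [← inner_map hiso g v w, hv, hw, inner_smul_left, inner_smul_right, ← mul_assoc]
  by_contra h0
  have h2 : conj μ * ν = 1 := (mul_eq_right₀ h0).mp h1
  exact hne (mul_left_cancel₀ (left_ne_zero_of_mul_eq_one h2) (hμ.trans h2.symm))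

theorem norm_opRep_le (hiso : ∀ g v, ‖σ g v‖ = ‖v‖) (g : G) : ‖opRep σ g‖ ≤ 1 :=
  ContinuousLinearMap.opNorm_le_bound _ zero_le_one fun v => by simp [hiso g v]

/-- The distance of `σ g` to the scalar `c`. -/
noncomputable def dev (σ : Representation ℂ G W) (g : G) (c : ℂ) : ℝ :=
  ‖opRep σ g - c • 1‖

/-- If all eigenvalues lie in an open disc, the distance to its centre is below the radius. -/
theorem dev_lt [Finite G] (hiso : ∀ g v, ‖σ g v‖ = ‖v‖) (g : G) (c : ℂ) {r : ℝ} (hr : 0 < r)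
    (h : ∀ (v : W) (μ : ℂ), v ≠ 0 → σ g v = μ • v → ‖μ - c‖ < r) : dev σ g c < r := by
  classical
  obtain ⟨b, ε, hb, -⟩ := Char.exists_eigenbasis σ g
  have hlt : ∀ i, ‖ε i - c‖ < r := fun i => h _ _ (b.ne_zero i) (hb i)
  obtain ⟨r', hr', h0, hle⟩ : ∃ r' : ℝ, r' < r ∧ 0 ≤ r' ∧ ∀ i, ‖ε i - c‖ ≤ r' := by
    rcases (Finset.univ : Finset (Fin (finrank ℂ W))).eq_empty_or_nonempty with he | hne
    · exact ⟨0, hr, le_rfl, fun i => absurd (Finset.mem_univ i) (he ▸ Finset.notMem_empty i)⟩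
    · obtain ⟨i, -, hi⟩ := Finset.exists_max_image _ (fun i => ‖ε i - c‖) hne
      exact ⟨_, hlt i, norm_nonneg _, fun j => hi j (Finset.mem_univ j)⟩
  refine lt_of_le_of_lt (ContinuousLinearMap.opNorm_le_bound _ h0 fun v => ?_) hr'
  set M : Finset ℂ := Finset.univ.image ε
  let w : ℂ → W := fun μ => ∑ i ∈ Finset.univ.filter (fun i => ε i = μ), b.repr v i • b i
  have hw : ∀ μ, σ g (w μ) = μ • w μ := fun μ => by
    simp only [w, map_sum, map_smul, Finset.smul_sum]
    refine Finset.sum_congr rfl fun i hi => ?_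
    rw [hb, (Finset.mem_filter.mp hi).2, smul_comm]
  have hv : v = ∑ μ ∈ M, w μ := by
    conv_lhs => rw [← b.sum_repr v]
    exact (Finset.sum_fiberwise_of_maps_to (fun i _ => Finset.mem_image_of_mem ε (Finset.mem_univ i)) _).symm
  have horth : ∀ d : ℂ → ℂ, ‖∑ μ ∈ M, d μ • w μ‖ ^ 2 = ∑ μ ∈ M, ‖d μ‖ ^ 2 * ‖w μ‖ ^ 2 := by
    intro d
    have h1 : ⟪∑ μ ∈ M, d μ • w μ, ∑ μ ∈ M, d μ • w μ⟫_ℂ =
        ∑ μ ∈ M, ((‖d μ‖ : ℂ) ^ 2 * (‖w μ‖ : ℂ) ^ 2) := by
      rw [sum_inner]
      refine Finset.sum_congr rfl fun μ hμ => ?_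
      rw [inner_sum, Finset.sum_eq_single μ]
      · rw [inner_smul_left, inner_smul_right, inner_self_eq_norm_sq_to_K, ← mul_assoc,
          Complex.conj_mul']
        rfl
      · intro ν _ hν
        rw [inner_smul_left, inner_smul_right, eigen_orth hiso (Ne.symm hν) (hw μ) (hw ν)]
        simp
      · exact fun h => absurd hμ h
    rw [inner_self_eq_norm_sq_to_K] at h1
    apply Complex.ofReal_injective
    push_cast
    exact h1
  have hTv : (opRep σ g - c • 1) v = ∑ μ ∈ M, (μ - c) • w μ := by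
    simp only [sub_apply, opRep_apply, ContinuousLinearMap.smul_apply,
      ContinuousLinearMap.one_apply, sub_smul, Finset.sum_sub_distrib]
    rw [← Finset.smul_sum, ← hv]
    congr 1
    conv_lhs => rw [hv]
    rw [map_sum]
    exact Finset.sum_congr rfl fun μ _ => hw μ
  have hsq : ‖(opRep σ g - c • 1) v‖ ^ 2 ≤ (r' * ‖v‖) ^ 2 := by
    have hv2 := horth 1
    simp only [Pi.one_apply, one_smul, norm_one, one_pow, one_mul] at hv2
    rw [hTv, horth, mul_pow, hv, hv2, Finset.mul_sum]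
    refine Finset.sum_le_sum fun μ hμ => ?_
    obtain ⟨i, -, rfl⟩ := Finset.mem_image.mp hμ
    gcongr
    exact hle i
  exact le_of_sq_le_sq hsq (by positivity)

theorem dev_commutator_le (hiso : ∀ g v, ‖σ g v‖ = ‖v‖) (x y : G) (c : ℂ) :
    dev σ (x * y * x⁻¹ * y⁻¹) 1 ≤ 2 * (dev σ x c * dev σ y 1) := by
  set U := opRep σ
  have h1 : U (x * y * x⁻¹ * y⁻¹) - (1 : ℂ) • 1 =
      ((U x - c • 1) * (U y - (1:ℂ) • 1) - (U y - (1:ℂ) • 1) * (U x - c • 1)) * U (x⁻¹ * y⁻¹) := by
    have h2 : (U x - c • 1) * (U y - (1:ℂ) • 1) - (U y - (1:ℂ) • 1) * (U x - c • 1) =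
        U (x * y) - U (y * x) := by
      rw [map_mul, map_mul]
      ext v
      simp only [sub_apply, ContinuousLinearMap.mul_apply, ContinuousLinearMap.smul_apply,
        ContinuousLinearMap.one_apply, map_sub, map_smul, smul_sub]
      module
    rw [h2, sub_mul, ← map_mul, ← map_mul, one_smul]
    have e1 : y * x * (x⁻¹ * y⁻¹) = 1 := by group
    rw [e1, map_one, ← mul_assoc (x * y)]
  rw [dev, h1]
  refine (norm_mul_le _ _).trans ?_
  refine (mul_le_of_le_one_right (norm_nonneg _) (norm_opRep_le hiso _)).trans ?_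
  refine (norm_sub_le _ _).trans ?_
  refine (add_le_add (norm_mul_le _ _) (norm_mul_le _ _)).trans ?_
  show _ ≤ 2 * (‖U x - c • 1‖ * ‖U y - (1:ℂ) • 1‖)
  linarith [mul_comm ‖U x - c • 1‖ ‖U y - (1:ℂ) • 1‖]

/-- If `x` commutes with a conjugate `y x y⁻¹` and `σ y` is close to one, then `σ x` and `σ y`
commute. -/
theorem commute_of_commute_conj [Finite G] (hiso : ∀ g v, ‖σ g v‖ = ‖v‖) (x y : G)
    (hc : x * (y * x * y⁻¹) = (y * x * y⁻¹) * x) (hy : dev σ y 1 ^ 2 < 2) (v : W) :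
    σ x (σ y v) = σ y (σ x v) := by
  obtain ⟨b, ε, hb, -⟩ := Char.exists_eigenbasis σ x
  have key : ∀ (μ : ℂ) (u : W), σ x u = μ • u → σ x (σ y u) = μ • σ y u := by
    intro μ u hu
    set z := y * x * y⁻¹
    set E' : Submodule ℂ W := Module.End.eigenspace (σ z) μ
    set F : Submodule ℂ W := E' ⊓ (E' ⊓ Module.End.eigenspace (σ x) μ)ᗮ
    have hzy : ∀ w : W, σ z (σ y w) = σ y (σ x w) := fun w => by
      rw [← Module.End.mul_apply, ← map_mul, ← Module.End.mul_apply, ← map_mul]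
      congr 2
      simp [z]
    have hu' : σ y u ∈ E' := Module.End.mem_eigenspace_iff.mpr (by rw [hzy, hu, map_smul])
    suffices hle : E' ≤ Module.End.eigenspace (σ x) μ from
      Module.End.mem_eigenspace_iff.mp (hle hu')
    by_contra hcon
    have hF : F ≠ ⊥ := by
      intro hF0
      apply hcon
      have h := Submodule.sup_orthogonal_inf_of_hasOrthogonalProjection
        (inf_le_left : E' ⊓ Module.End.eigenspace (σ x) μ ≤ E')
      rw [inf_comm _ E'] at h
      rw [show E' ⊓ (E' ⊓ Module.End.eigenspace (σ x) μ)ᗮ = ⊥ from hF0, sup_bot_eq] at h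
      exact h.symm.le.trans inf_le_right
    have hinvE : ∀ w ∈ E', σ x w ∈ E' := fun w hw => by
      rw [Module.End.mem_eigenspace_iff] at hw ⊢
      rw [← Module.End.mul_apply, ← map_mul, ← hc, map_mul, Module.End.mul_apply, hw, map_smul]
    have hinv : ∀ w ∈ F, σ x w ∈ F := by
      rintro w ⟨hw1, hw2⟩
      refine ⟨hinvE w hw1, ?_⟩
      rw [SetLike.mem_coe, Submodule.mem_orthogonal] at hw2 ⊢
      intro e he
      rcases eq_or_ne e 0 with rfl | he0
      · simp
      have hee : σ x e = μ • e := Module.End.mem_eigenspace_iff.mp he.2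
      have hμ := eigen_norm hiso he0 hee
      have h := inner_map hiso x e w
      rw [hee, inner_smul_left, hw2 e he] at h
      exact (mul_eq_zero.mp h).resolve_left
        (by simpa using norm_ne_zero_iff.mp (by rw [hμ]; exact one_ne_zero))
    haveI : Nontrivial F := Submodule.nontrivial_iff_ne_bot.mpr hF
    obtain ⟨ν, hν⟩ := Module.End.exists_eigenvalue ((σ x).restrict hinv)
    obtain ⟨⟨w, hwF⟩, hw⟩ := hν.exists_hasEigenvector
    have hwx : σ x w = ν • w := congrArg Subtype.val hw.apply_eq_smul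
    have hw0 : w ≠ 0 := fun h => hw.2 (Subtype.ext h)
    have hwE : w ∈ E' := hwF.1
    rcases eq_or_ne ν μ with rfl | hne
    · have h1 := (Submodule.mem_orthogonal _ _).mp hwF.2 w
        ⟨hwE, Module.End.mem_eigenspace_iff.mpr hwx⟩
      exact hw0 (inner_self_eq_zero.mp h1)
    · set t := σ y⁻¹ w with ht
      have hyt : σ y t = w := by
        rw [ht, ← Module.End.mul_apply, ← map_mul]; simp
      have htμ : σ x t = μ • t := by
        have h1 : σ z w = μ • w := Module.End.mem_eigenspace_iff.mp hwE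
        have h2 : σ y (σ x t) = σ y (μ • t) := by rw [← hzy, hyt, h1, map_smul, hyt]
        have h3 := congrArg (σ y⁻¹) h2
        have hl : ∀ u, σ y⁻¹ (σ y u) = u := fun u => by
          rw [← Module.End.mul_apply, ← map_mul, inv_mul_cancel, map_one, Module.End.one_apply]
        rwa [hl, hl] at h3
      have horth : ⟪t, w⟫_ℂ = 0 := eigen_orth hiso (Ne.symm hne) htμ hwx
      have hnw : ‖w‖ = ‖t‖ := by rw [← hyt]; exact hiso y t
      have ht0 : 0 < ‖t‖ := by rw [← hnw]; exact norm_pos_iff.mpr hw0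
      have h4 : ‖w - t‖ ^ 2 = 2 * ‖t‖ ^ 2 := by
        rw [@norm_sub_sq ℂ, hnw, inner_eq_zero_symm.mp horth]
        simp; ring
      have h5 : ‖w - t‖ ≤ dev σ y 1 * ‖t‖ := by
        have := (opRep σ y - (1:ℂ) • 1).le_opNorm t
        simpa [dev, hyt] using this
      have h6 : ‖w - t‖ ^ 2 ≤ dev σ y 1 ^ 2 * ‖t‖ ^ 2 := by
        rw [← mul_pow]; gcongr
      nlinarith [mul_lt_mul_of_pos_right hy (pow_pos ht0 2)]
  have h : (σ x).comp (σ y) = (σ y).comp (σ x) := b.ext fun i => by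
    simp [key _ _ (hb i), hb i]
  exact LinearMap.congr_fun h v

/-- Frobenius's lemma: an element at distance below one half from a scalar commutes with every
element at distance below `√2` from one. -/
theorem commute_of_dev_lt [Finite G] (hiso : ∀ g v, ‖σ g v‖ = ‖v‖) (hinj : Function.Injective σ)
    (x : G) (c : ℂ) (hx : dev σ x c < 1 / 2) (y : G) (hy : dev σ y 1 ^ 2 < 2) :
    x * y = y * x := by
  classical
  haveI := Fintype.ofFinite G
  by_contra hne
  set T := Finset.univ.filter (fun y : G => dev σ y 1 ^ 2 < 2 ∧ x * y ≠ y * x)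
  obtain ⟨m, hm, hmin⟩ := Finset.exists_min_image T (fun y => dev σ y 1)
    ⟨y, Finset.mem_filter.mpr ⟨Finset.mem_univ _, hy, hne⟩⟩
  obtain ⟨-, hm2, hmne⟩ := Finset.mem_filter.mp hm
  have hd0 : 0 < dev σ m 1 := by
    refine lt_of_le_of_ne (norm_nonneg _) fun h0 => hmne ?_
    have h1 : σ m = 1 := by
      ext v
      have h2 := norm_eq_zero.mp h0.symm
      have h3 := congrArg (fun T : W →L[ℂ] W => T v) h2
      simpa [sub_eq_zero] using h3
    have hm1 : m = 1 := hinj (by rw [h1, map_one])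
    simp [hm1]
  have hlt : dev σ (x * m * x⁻¹ * m⁻¹) 1 < dev σ m 1 :=
    lt_of_le_of_lt (dev_commutator_le hiso x m c) (by nlinarith [mul_lt_mul_of_pos_right hx hd0])
  have hcomm : x * (x * m * x⁻¹ * m⁻¹) = (x * m * x⁻¹ * m⁻¹) * x := by
    by_contra hn
    have := hmin _ (Finset.mem_filter.mpr ⟨Finset.mem_univ _,
      lt_of_le_of_lt (by gcongr; exact norm_nonneg _) hm2, hn⟩)
    linarith
  have hcx : Commute x (m * x * m⁻¹) := by
    have h1 : Commute x (x * m * x⁻¹ * m⁻¹) := hcomm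
    have h2 : Commute x (x⁻¹ * (x * m * x⁻¹ * m⁻¹)) :=
      ((Commute.refl x).inv_right).mul_right h1
    have h3 := h2.inv_right
    have e : (x⁻¹ * (x * m * x⁻¹ * m⁻¹))⁻¹ = m * x * m⁻¹ := by group
    rwa [e] at h3
  apply hmne
  refine hinj ?_
  rw [map_mul, map_mul]
  exact LinearMap.ext fun v => commute_of_commute_conj hiso x m hcx hm2 v

/-- A finite commuting family of operators has a common eigenvector in every nonzero invariant
subspace. -/
theorem exists_common_eigenvector {V : Type*} [AddCommGroup V] [Module ℂ V]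
    [FiniteDimensional ℂ V] {ι : Type*} (s : Finset ι) (f : ι → Module.End ℂ V)
    (hc : ∀ i j, Commute (f i) (f j)) (P : Submodule ℂ V) (hP : P ≠ ⊥)
    (hinv : ∀ i, ∀ v ∈ P, f i v ∈ P) :
    ∃ v ∈ P, v ≠ 0 ∧ ∀ i ∈ s, ∃ μ : ℂ, f i v = μ • v := by
  classical
  induction s using Finset.induction_on generalizing P with
  | empty =>
    obtain ⟨v, hv, hv0⟩ := Submodule.exists_mem_ne_zero_of_ne_bot hP
    exact ⟨v, hv, hv0, by simp⟩
  | insert i s _ ih =>
    haveI : Nontrivial P := Submodule.nontrivial_iff_ne_bot.mpr hP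
    obtain ⟨μ, hμ⟩ := Module.End.exists_eigenvalue ((f i).restrict (hinv i))
    obtain ⟨⟨w, hwP⟩, hw⟩ := hμ.exists_hasEigenvector
    set Q := P ⊓ Module.End.eigenspace (f i) μ
    have hwQ : w ∈ Q := ⟨hwP, Module.End.mem_eigenspace_iff.mpr (congrArg Subtype.val hw.apply_eq_smul)⟩
    have hQ : Q ≠ ⊥ := fun h => hw.2 (Subtype.ext (by rw [h] at hwQ; exact hwQ))
    have hQinv : ∀ j, ∀ v ∈ Q, f j v ∈ Q := by
      rintro j v ⟨hv1, hv2⟩
      refine ⟨hinv j v hv1, ?_⟩
      rw [SetLike.mem_coe, Module.End.mem_eigenspace_iff] at hv2 ⊢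
      rw [← Module.End.mul_apply, (hc i j).eq, Module.End.mul_apply, hv2, map_smul]
    obtain ⟨v, hv, hv0, hall⟩ := ih Q hQ hQinv
    refine ⟨v, hv.1, hv0, fun j hj => ?_⟩
    rcases Finset.mem_insert.mp hj with rfl | hj
    · exact ⟨μ, Module.End.mem_eigenspace_iff.mp hv.2⟩
    · exact hall j hj

end Cfsg.Agent.Jordan
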